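import Groth.Agent.H58.JacDim.Comp

set_option autoImplicit false
set_option linter.unusedSectionVars false
universe u
open CategoryTheory AlgebraicGeometry Topology Order TopologicalSpace

namespace Groth.Agent.H58.JacDim

variable {X : Scheme.{u}} {Y : Set X} (hY : IsClosed Y) (x : X) (hx : x ∈ Y)

/-- the supremum of the dimensions of the components through `x`. -/
noncomputable def Dsup (Y : Set X) (x : X) (hx : x ∈ Y) : WithBot ℕ∞ :=
  ⨆ C ∈ {C : Set ↥Y | C ∈ irreducibleComponents ↥Y ∧ (⟨x, hx⟩ : ↥Y) ∈ C}, topologicalKrullDim ↥C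

theorem dim_le_Dsup {C : Set ↥Y} (hC : C ∈ irreducibleComponents ↥Y) (hxC : (⟨x, hx⟩ : ↥Y) ∈ C) :
    topologicalKrullDim ↥C ≤ Dsup Y x hx :=
  le_iSup₂ (f := fun (C : Set ↥Y)
    (_ : C ∈ {C : Set ↥Y | C ∈ irreducibleComponents ↥Y ∧ (⟨x, hx⟩ : ↥Y) ∈ C}) =>
      topologicalKrullDim ↥C) C ⟨hC, hxC⟩

/-- `U` meets only the irreducible components of `Y` through `x`. -/
def Good (Y : Set X) (x : X) (hx : x ∈ Y) (U : Set X) : Prop :=
  ∀ C ∈ irreducibleComponents ↥Y, (⟨x, hx⟩ : ↥Y) ∉ C → Disjoint (Subtype.val ⁻¹' U) C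

/-- a bound for all natural numbers below `a` is a bound for `a`. -/
theorem le_of_forall_nat_le (a : ℕ∞) (D : WithBot ℕ∞)
    (h : ∀ n : ℕ, (n : ℕ∞) ≤ a → ((n : ℕ∞) : WithBot ℕ∞) ≤ D) : (a : WithBot ℕ∞) ≤ D := by
  by_cases htop : a = ⊤
  · subst htop
    by_contra hlt
    rw [not_le] at hlt
    cases hD : D with
    | bot =>
      have := h 0 le_top
      rw [hD] at this
      exact absurd this (by simp)
    | coe d =>
      rw [hD] at hlt
      have hd : d ≠ ⊤ := fun hh => by rw [hh] at hlt; exact lt_irrefl _ hlt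
      obtain ⟨m, rfl⟩ := ENat.ne_top_iff_exists.mp hd
      have := h (m + 1) le_top
      rw [hD] at this
      have h5 : ((m + 1 : ℕ) : ℕ∞) ≤ (m : ℕ∞) := by exact_mod_cast this
      have h6 : (m + 1 : ℕ) ≤ m := by exact_mod_cast h5
      omega
  · obtain ⟨n, hn⟩ := ENat.ne_top_iff_exists.mp htop
    rw [← hn]
    exact h n (by rw [← hn])

/-- bound for the coheight in `Y` of a point lying only on components through `x`. -/
theorem coheight_le_Dsup (t : X) (ht : t ∈ Y)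
    (hgood : ∀ C ∈ irreducibleComponents ↥Y, (⟨t, ht⟩ : ↥Y) ∈ C → (⟨x, hx⟩ : ↥Y) ∈ C) :
    (coheight (⟨t, ht⟩ : ↥Y) : WithBot ℕ∞) ≤ Dsup Y x hx := by
  apply le_of_forall_nat_le
  intro n hn
  obtain ⟨p, hp, hpn⟩ := Order.exists_series_of_le_coheight (⟨t, ht⟩ : ↥Y) (n := n) hn
  obtain ⟨C, hC, hhC, hh, hlen⟩ := exists_component_of_series p
  have hxC : (⟨x, hx⟩ : ↥Y) ∈ C := hgood C hC (hp ▸ hhC)
  refine le_trans ?_ (dim_le_Dsup x hx hC hxC)
  rw [dim_im_eq C, ← hpn]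
  have h7 : ((p.length : ℕ∞) : WithBot ℕ∞) ≤
      (coheight (⟨(p.head : X), hh⟩ : ↥(im C)) : WithBot ℕ∞) := by exact_mod_cast hlen
  exact le_trans h7 (coheight_le_topologicalKrullDim (im C) _)

include hY in
/-- upper bound for the dimension of a good open neighbourhood. -/
theorem dim_inter_le_Dsup (U : Set X) (hU : IsOpen U) (hgood : Good Y x hx U) :
    topologicalKrullDim ↥(U ∩ Y) ≤ Dsup Y x hx := by
  rw [topologicalKrullDim_eq_iSup_coheight (star_inter_open hY hU)]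
  refine iSup_le fun t => ?_
  have h1 : coheight t ≤ coheight (⟨(t : X), t.2.2⟩ : ↥Y) :=
    Groth.Agent.H17.Chev.coheight_subtype_mono Set.inter_subset_right (t : X) t.2
  have h1' : (coheight t : WithBot ℕ∞) ≤ (coheight (⟨(t : X), t.2.2⟩ : ↥Y) : WithBot ℕ∞) := by
    exact_mod_cast h1
  refine le_trans h1' (coheight_le_Dsup x hx (t : X) t.2.2 ?_)
  intro C hC htC
  by_contra hcon
  have hd := hgood C hC hcon
  rw [Set.disjoint_left] at hd
  exact hd (a := ⟨(t : X), t.2.2⟩) t.2.1 htC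

end Groth.Agent.H58.JacDim
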