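import Groth.Agent.H58.JacDim.Irr
import Groth.Agent.H58.LenDVR.Top

set_option autoImplicit false
set_option linter.unusedSectionVars false
universe u
open CategoryTheory AlgebraicGeometry Topology Order TopologicalSpace

namespace Groth.Agent.H58.JacDim

variable {X : Scheme.{u}} {Y : Set X} (hY : IsClosed Y)

/-- image in `X` of a subset of `Y`. -/
abbrev im (C : Set ↥Y) : Set X := Subtype.val '' C

theorem im_subset (C : Set ↥Y) : im C ⊆ Y := by
  rintro _ ⟨c, -, rfl⟩; exact c.2

theorem mem_im_iff (C : Set ↥Y) (t : X) (ht : t ∈ Y) : t ∈ im C ↔ (⟨t, ht⟩ : ↥Y) ∈ C := by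
  constructor
  · rintro ⟨c, hc, rfl⟩; exact hc
  · intro h; exact ⟨⟨t, ht⟩, h, rfl⟩

theorem dim_im_eq (C : Set ↥Y) : topologicalKrullDim ↥C = topologicalKrullDim ↥(im C) := by
  refine Groth.Agent.H17.Chev.topologicalKrullDim_eq_of_isEmbedding
    (fun c : ↥C => ((c : ↥Y) : X)) ?_ (im C) ?_
  · exact IsEmbedding.subtypeVal.comp IsEmbedding.subtypeVal
  · ext t
    constructor
    · rintro ⟨c, rfl⟩; exact ⟨c.1, c.2, rfl⟩
    · rintro ⟨c, hc, rfl⟩; exact ⟨⟨c, hc⟩, rfl⟩

include hY in
theorem isClosed_im {C : Set ↥Y} (hC : IsClosed C) : IsClosed (im C) :=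
  hY.isClosedEmbedding_subtypeVal.isClosedMap C hC

theorem isIrreducible_im {C : Set ↥Y} (hC : IsIrreducible C) : IsIrreducible (im C) :=
  hC.image _ continuous_subtype_val.continuousOn

include hY in
/-- the generic point of an irreducible component of `Y`. -/
theorem exists_generic_im {C : Set ↥Y} (hC : C ∈ irreducibleComponents ↥Y) :
    ∃ γ : X, closure ({γ} : Set X) = im C := by
  have hCc : IsClosed C := isClosed_of_mem_irreducibleComponents C hC
  obtain ⟨γ, hγ⟩ := QuasiSober.sober (isIrreducible_im hC.1) (isClosed_im hY hCc)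
  exact ⟨γ, hγ.def⟩

/-- chains in `Y` live on an irreducible component. -/
theorem exists_component_of_series (p : LTSeries ↥Y) :
    ∃ C ∈ irreducibleComponents ↥Y, p.head ∈ C ∧
      ∃ hh : (p.head : X) ∈ im C, (p.length : ℕ∞) ≤ coheight (⟨(p.head : X), hh⟩ : ↥(im C)) := by
  let C := irreducibleComponent p.last
  have hC : C ∈ irreducibleComponents ↥Y := irreducibleComponent_mem_irreducibleComponents _
  have hCc : IsClosed C := isClosed_irreducibleComponent
  have hmem : ∀ i, p i ∈ C := by
    intro i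
    have h1 : p i ≤ p.last := p.monotone (Fin.le_last i)
    have h2 : p.last ⤳ p i := (subtype_le_iff' Y _ _).mp h1
    exact h2.mem_closed hCc mem_irreducibleComponent
  refine ⟨C, hC, hmem 0, ⟨p.head, hmem 0, rfl⟩, ?_⟩
  let q : LTSeries ↥(im C) :=
    { length := p.length
      toFun := fun i => ⟨((p i : ↥Y) : X), ⟨p i, hmem i, rfl⟩⟩
      step := fun i => by
        have := p.step i
        exact this }
  have hq : (⟨(p.head : X), ⟨p.head, hmem 0, rfl⟩⟩ : ↥(im C)) ≤ q.head := le_of_eq rfl
  exact Order.length_le_coheight hq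

end Groth.Agent.H58.JacDim
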