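import Groth.Agent.H58.JacDim.Main
import Groth.Agent.S9126

set_option autoImplicit false
set_option linter.unusedSectionVars false
set_option linter.style.haveILetI false
universe u
open CategoryTheory AlgebraicGeometry Topology Order TopologicalSpace

namespace Groth.Agent.H58.JacDim

variable {X S : Scheme.{u}} [IsLocallyNoetherian S] [JacobsonSpace S]
  (h2 : ∀ s : S, CAlg.IsUniversallyCatenary (S.presheaf.stalk s))
  (h3 : ∀ S' ∈ irreducibleComponents (S : Type u), ∀ s ∈ S', IsClosed ({s} : Set S) →
      topologicalKrullDim (↥S' : Type u) = topologicalKrullDim ↥{t : S | t ∈ S' ∧ t ⤳ s})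
  (g : X ⟶ S) [LocallyOfFiniteType g]

include h2 g in
omit [IsLocallyNoetherian S] [JacobsonSpace S] in
/-- local rings of a scheme locally of finite type over a base with universally catenary local
rings are universally catenary. -/
theorem isUniversallyCatenary_stalk_of_lft (x : X) :
    CAlg.IsUniversallyCatenary (X.presheaf.stalk x) := by
  letI : Algebra (S.presheaf.stalk (g.base x)) (X.presheaf.stalk x) := (g.stalkMap x).hom.toAlgebra
  haveI : Algebra.EssFiniteType (S.presheaf.stalk (g.base x)) (X.presheaf.stalk x) :=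
    LocallyOfFiniteType.stalkMap (f := g) x
  exact Groth.Agent.S9126.result (S.presheaf.stalk (g.base x)) (X.presheaf.stalk x) (h2 _)

include h2 h3 g in
/-- irreducible components of a scheme locally of finite type over an equicodimensional Jacobson
base with universally catenary local rings are equicodimensional. -/
theorem equicodim_of_lft (X' : Set X) (hX' : X' ∈ irreducibleComponents (X : Type u)) (x : X)
    (hxX' : x ∈ X') (hxc : IsClosed ({x} : Set X)) :
    topologicalKrullDim (↥X' : Type u) = topologicalKrullDim ↥{t : X | t ∈ X' ∧ t ⤳ x} := by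
  have hX'c : IsClosed X' := isClosed_of_mem_irreducibleComponents X' hX'
  obtain ⟨W, i, hi, hr⟩ := Groth.Agent.H17.Chev.exists_closedImmersion_range X X' hX'c
  subst hr
  obtain ⟨w₀, rfl⟩ := hxX'
  -- `W` is irreducible
  have hirr : IsIrreducible (Set.range i.base) := hX'.1
  obtain ⟨γ, hγ⟩ := QuasiSober.sober hirr hX'c
  obtain ⟨w₁, rfl⟩ := hγ.mem
  obtain ⟨hirrW, -⟩ := Groth.Agent.H17.Chev.irreducibleSpace_of_isEmbedding i.base i.isEmbedding w₁
    (by rw [hγ.def])
  have hw₀c : IsClosed ({w₀} : Set W) := by
    have : ({w₀} : Set W) = i.base ⁻¹' {i.base w₀} := by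
      ext t
      simp only [Set.mem_singleton_iff, Set.mem_preimage]
      exact ⟨fun h => by rw [h], fun h => i.isEmbedding.injective h⟩
    rw [this]
    exact hxc.preimage i.continuous
  have key := Groth.Agent.H17.Chev.topologicalKrullDim_eq_stalk_dim_of_isClosed h2 h3 (i ≫ g) w₀ hw₀c
  rw [Groth.Agent.H17.Chev.dim_generizations_inter_eq_coheight X _ hX'c (i.base w₀) ⟨w₀, rfl⟩,
    ← Groth.Agent.H17.Chev.stalk_eq_coheight_range i w₀, ← key]
  exact (Groth.Agent.H17.Chev.topologicalKrullDim_eq_of_isEmbedding i.base i.isEmbedding _ rfl).symm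

end Groth.Agent.H58.JacDim
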