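import Groth.Agent.H58.JacDim.Lower

set_option autoImplicit false
set_option linter.unusedSectionVars false
universe u
open CategoryTheory AlgebraicGeometry Topology Order TopologicalSpace

namespace Groth.Agent.H58.JacDim

variable {X : Scheme.{u}} [IsLocallyNoetherian X] {Y : Set X} (hY : IsClosed Y) (x : X) (hx : x ∈ Y)

include hY in
/-- the generic point of an irreducible component of `Y` is a maximal point of `Y`. -/
theorem eq_of_specializes_generic {C : Set ↥Y} (hC : C ∈ irreducibleComponents ↥Y) (γ : X)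
    (hγ : closure ({γ} : Set X) = im C) (w : X) (hw : w ∈ Y) (hwγ : w ⤳ γ) : w = γ := by
  have hγY : γ ∈ Y := im_subset C (hγ ▸ subset_closure rfl)
  -- closure of `w` in `Y` is irreducible and contains `C`
  have hirr : IsIrreducible (closure ({(⟨w, hw⟩ : ↥Y)} : Set ↥Y)) := isIrreducible_singleton.closure
  have hsub : C ⊆ closure ({(⟨w, hw⟩ : ↥Y)} : Set ↥Y) := by
    intro c hc
    rw [closure_subtype, Set.image_singleton]
    have h1 : (c : X) ∈ closure ({γ} : Set X) := hγ ▸ ⟨c, hc, rfl⟩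
    have h2 : γ ⤳ (c : X) := specializes_iff_mem_closure.mpr h1
    exact (hwγ.trans h2).mem_closure
  have heq : closure ({(⟨w, hw⟩ : ↥Y)} : Set ↥Y) ⊆ C := hC.2 hirr hsub
  have hwC : (⟨w, hw⟩ : ↥Y) ∈ C := heq (subset_closure rfl)
  have hwim : w ∈ closure ({γ} : Set X) := hγ ▸ ⟨⟨w, hw⟩, hwC, rfl⟩
  have hγw : γ ⤳ w := specializes_iff_mem_closure.mpr hwim
  exact (hwγ.antisymm hγw).eq

include hY in
/-- existence of a good open neighbourhood. -/
theorem exists_good : ∃ U : Set X, IsOpen U ∧ x ∈ U ∧ Good Y x hx U := by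
  obtain ⟨_, ⟨U₀, hU₀, rfl⟩, hxU₀, -⟩ := X.isBasis_affineOpens.exists_subset_of_mem_open
    (Set.mem_univ x) isOpen_univ
  replace hU₀ : IsAffineOpen U₀ := hU₀
  have hUN : NoetherianSpace ↥U₀ := by
    have : IsNoetherianRing Γ(X, U₀) := IsLocallyNoetherian.component_noetherian ⟨U₀, hU₀⟩
    exact noetherianSpace_of_isAffineOpen U₀ hU₀
  set Z : Set ↥U₀ := (Subtype.val : ↥U₀ → X) ⁻¹' Y with hZdef
  have hZ : IsClosed Z := hY.preimage continuous_subtype_val
  haveI : QuasiSober ↥U₀ := U₀.isOpen.isOpenEmbedding_subtypeVal.quasiSober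
  have hfin := Groth.Agent.H58.LenDVR.finite_maxPoints (T := ↥U₀) hZ
  set B : Set ↥U₀ := {m | (m ∈ Z ∧ ∀ w ∈ Z, w ⤳ m → w = m) ∧ ¬ ((m : X) ⤳ x)} with hB
  have hBfin : B.Finite := hfin.subset (fun m hm => hm.1)
  have hcl : IsClosed (⋃ m ∈ B, closure ({(m : X)} : Set X)) :=
    hBfin.isClosed_biUnion (fun m _ => isClosed_closure)
  refine ⟨(U₀ : Set X) ∩ (⋃ m ∈ B, closure ({(m : X)} : Set X))ᶜ, U₀.isOpen.inter hcl.isOpen_compl,
    ⟨hxU₀, ?_⟩, ?_⟩
  · simp only [Set.mem_compl_iff, Set.mem_iUnion, not_exists]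
    intro m hm hxm
    exact hm.2 (specializes_iff_mem_closure.mpr hxm)
  · intro C hC hxC
    rw [Set.disjoint_left]
    intro t htU htC
    obtain ⟨htU₀, htB⟩ := htU
    obtain ⟨γ, hγ⟩ := exists_generic_im hY hC
    have htim : (t : X) ∈ closure ({γ} : Set X) := hγ ▸ ⟨t, htC, rfl⟩
    have hγt : γ ⤳ (t : X) := specializes_iff_mem_closure.mpr htim
    have hγU₀ : γ ∈ (U₀ : Set X) := hγt.mem_open U₀.isOpen htU₀
    have hγY : γ ∈ Y := im_subset C (hγ ▸ subset_closure rfl)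
    apply htB
    simp only [Set.mem_iUnion]
    refine ⟨⟨γ, hγU₀⟩, ⟨⟨hγY, ?_⟩, ?_⟩, htim⟩
    · intro w hw hwγ
      have h1 : (w : X) ⤳ γ := (subtype_specializes_iff w ⟨γ, hγU₀⟩).mp hwγ
      exact Subtype.ext (eq_of_specializes_generic hY hC γ hγ (w : X) hw h1)
    · intro hγx
      apply hxC
      have hxim : x ∈ im C := hγ ▸ hγx.mem_closure
      exact (mem_im_iff C x hx).mp hxim

end Groth.Agent.H58.JacDim
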