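import Groth.Agent.H58.JacDim.Top

set_option autoImplicit false
set_option linter.unusedSectionVars false
universe u
open CategoryTheory AlgebraicGeometry Topology Order TopologicalSpace

namespace Groth.Agent.H58.JacDim

variable {X : Scheme.{u}} [IsLocallyNoetherian X] [JacobsonSpace X]
  (h2 : ∀ x : X, CAlg.IsUniversallyCatenary (X.presheaf.stalk x))
  (h3 : ∀ X' ∈ irreducibleComponents (X : Type u), ∀ x ∈ X', IsClosed ({x} : Set X) →
      topologicalKrullDim (↥X' : Type u) = topologicalKrullDim ↥{t : X | t ∈ X' ∧ t ⤳ x})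

omit [IsLocallyNoetherian X] in
/-- every point specializes to a closed point. -/
theorem exists_closed_specialization (t : X) : ∃ c : X, t ⤳ c ∧ IsClosed ({c} : Set X) := by
  obtain ⟨c, hc1, hc2⟩ := nonempty_inter_closedPoints (X := X) (Z := closure {t})
    ⟨t, subset_closure rfl⟩ isClosed_closure.isLocallyClosed
  exact ⟨c, specializes_iff_mem_closure.mpr hc1, hc2⟩

include h2 h3 in
/-- the dimension of an irreducible closed subset is the coheight of any of its closed points. -/
theorem dim_closure_eq_coheight_closed (τ c : X) (hc : τ ⤳ c) (hcc : IsClosed ({c} : Set X)) :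
    topologicalKrullDim ↥(closure ({τ} : Set X)) =
      (coheight (⟨c, hc.mem_closure⟩ : ↥(closure ({τ} : Set X))) : WithBot ℕ∞) := by
  rw [topologicalKrullDim_eq_iSup_coheight (star_of_isClosed isClosed_closure)]
  apply le_antisymm
  · refine iSup_le fun t => ?_
    obtain ⟨c', hc', hcc'⟩ := exists_closed_specialization (t : X)
    have hτt : τ ⤳ (t : X) := specializes_iff_mem_closure.mpr t.2
    have hτc' : τ ⤳ c' := hτt.trans hc'
    have h1 : (⟨c', hτc'.mem_closure⟩ : ↥(closure ({τ} : Set X))) ≤ t :=
      Scheme.le_iff_specializes.mpr hc'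
    have h4 := Groth.Agent.H17.Chev.coheight_closure_eq_of_isClosed h2 h3 τ c' c hτc' hc hcc' hcc
    rw [← h4]
    exact_mod_cast coheight_anti h1
  · exact le_iSup (fun t : ↥(closure ({τ} : Set X)) => (coheight t : WithBot ℕ∞)) ⟨c, hc.mem_closure⟩

include h2 h3 in
/-- **dimension formula** for an irreducible closed subset `T = cl{τ}` and `t ∈ T`:
`dim T = dim cl{t} + codim(cl{t}, T)`. -/
theorem dim_closure_eq_add (τ t : X) (ht : τ ⤳ t) :
    topologicalKrullDim ↥(closure ({τ} : Set X)) =
      topologicalKrullDim ↥(closure ({t} : Set X)) +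
        (coheight (⟨t, ht.mem_closure⟩ : ↥(closure ({τ} : Set X))) : WithBot ℕ∞) := by
  obtain ⟨c, hc, hcc⟩ := exists_closed_specialization t
  rw [dim_closure_eq_coheight_closed h2 h3 τ c (ht.trans hc) hcc,
    dim_closure_eq_coheight_closed h2 h3 t c hc hcc,
    Groth.Agent.H17.Chev.coheight_closure_add X c t τ hc ht ((h2 c).2 _ inferInstance)]
  push_cast
  rfl

end Groth.Agent.H58.JacDim
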