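import Groth.Agent.H58.JacDim.Bounds

set_option autoImplicit false
set_option linter.unusedSectionVars false
universe u
open CategoryTheory AlgebraicGeometry Topology Order TopologicalSpace

namespace Groth.Agent.H58.JacDim

variable {X : Scheme.{u}} [IsLocallyNoetherian X] [JacobsonSpace X]
  (h2 : ∀ x : X, CAlg.IsUniversallyCatenary (X.presheaf.stalk x))
  (h3 : ∀ X' ∈ irreducibleComponents (X : Type u), ∀ x ∈ X', IsClosed ({x} : Set X) →
      topologicalKrullDim (↥X' : Type u) = topologicalKrullDim ↥{t : X | t ∈ X' ∧ t ⤳ x})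
  {Y : Set X} (hY : IsClosed Y) (x : X) (hx : x ∈ Y)

include h2 h3 hY in
/-- every open neighbourhood of `x` in `Y` has dimension at least that of each component
through `x`. -/
theorem dim_le_dim_inter (U : Set X) (hU : IsOpen U) (hxU : x ∈ U) {C : Set ↥Y}
    (hC : C ∈ irreducibleComponents ↥Y) (hxC : (⟨x, hx⟩ : ↥Y) ∈ C) :
    topologicalKrullDim ↥C ≤ topologicalKrullDim ↥(U ∩ Y) := by
  obtain ⟨γ, hγ⟩ := exists_generic_im hY hC
  have hxim : x ∈ im C := ⟨⟨x, hx⟩, hxC, rfl⟩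
  have hne : (U ∩ closure ({γ} : Set X)).Nonempty := ⟨x, hxU, hγ ▸ hxim⟩
  obtain ⟨c, ⟨hcU, hcγ⟩, hcc⟩ := nonempty_inter_closedPoints (X := X) hne
    (hU.isLocallyClosed.inter isClosed_closure.isLocallyClosed)
  have hγc : γ ⤳ c := specializes_iff_mem_closure.mpr hcγ
  have hsub : closure ({γ} : Set X) ⊆ Y := hγ ▸ im_subset C
  rw [dim_im_eq C, ← hγ, dim_closure_eq_coheight_closed h2 h3 γ c hγc hcc]
  have e1 : coheight (⟨c, ⟨hcU, hcγ⟩⟩ : ↥(U ∩ closure ({γ} : Set X))) =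
      coheight (⟨c, hγc.mem_closure⟩ : ↥(closure ({γ} : Set X))) :=
    coheight_subtype_eq_of_Ici Set.inter_subset_right c ⟨hcU, hcγ⟩
      (fun t ht htc => ⟨htc.mem_open hU hcU, ht⟩)
  have e2 : coheight (⟨c, ⟨hcU, hcγ⟩⟩ : ↥(U ∩ closure ({γ} : Set X))) ≤
      coheight (⟨c, ⟨hcU, hsub hcγ⟩⟩ : ↥(U ∩ Y)) :=
    Groth.Agent.H17.Chev.coheight_subtype_mono (Set.inter_subset_inter_right U hsub) c ⟨hcU, hcγ⟩
  rw [← e1]
  have e3 : (coheight (⟨c, ⟨hcU, hcγ⟩⟩ : ↥(U ∩ closure ({γ} : Set X))) : WithBot ℕ∞) ≤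
      (coheight (⟨c, ⟨hcU, hsub hcγ⟩⟩ : ↥(U ∩ Y)) : WithBot ℕ∞) := by exact_mod_cast e2
  exact le_trans e3 (coheight_le_topologicalKrullDim (U ∩ Y) _)

include h2 h3 hY in
theorem Dsup_le_dim_inter (U : Set X) (hU : IsOpen U) (hxU : x ∈ U) :
    Dsup Y x hx ≤ topologicalKrullDim ↥(U ∩ Y) :=
  iSup₂_le fun _ hC => dim_le_dim_inter h2 h3 hY x hx U hU hxU hC.1 hC.2

include h2 h3 hY in
/-- `dim cl{x} + codim(cl{x}, Y) = sup of the dimensions of the components through x`. -/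
theorem closure_add_coheight_eq_Dsup :
    topologicalKrullDim ↥(closure ({x} : Set X)) + (coheight (⟨x, hx⟩ : ↥Y) : WithBot ℕ∞) =
      Dsup Y x hx := by
  apply le_antisymm
  · -- use a chain of maximal length
    have hfin : coheight (⟨x, hx⟩ : ↥Y) ≠ ⊤ := by
      intro h
      have := Groth.Agent.H17.Chev.coheight_subtype_le Y x hx
      rw [h, top_le_iff] at this
      exact Groth.Agent.H17.Chev.coheight_ne_top_of_isLocallyNoetherian X x this
    obtain ⟨n, hn⟩ := ENat.ne_top_iff_exists.mp hfin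
    obtain ⟨p, hp, hpn⟩ := Order.exists_series_of_le_coheight (⟨x, hx⟩ : ↥Y) (n := n)
      (by rw [← hn])
    obtain ⟨C, hC, hhC, hh, hlen⟩ := exists_component_of_series p
    have hxC : (⟨x, hx⟩ : ↥Y) ∈ C := hp ▸ hhC
    refine le_trans ?_ (dim_le_Dsup x hx hC hxC)
    obtain ⟨γ, hγ⟩ := exists_generic_im hY hC
    have hxim : x ∈ im C := ⟨⟨x, hx⟩, hxC, rfl⟩
    have hγx : γ ⤳ x := specializes_iff_mem_closure.mpr (hγ ▸ hxim)
    rw [dim_im_eq C, ← hγ, dim_closure_eq_add h2 h3 γ x hγx, ← hn]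
    gcongr
    have h8 : (p.head : X) = x := by rw [hp]
    have h9 : coheight (⟨(p.head : X), hh⟩ : ↥(im C)) =
        coheight (⟨x, hγx.mem_closure⟩ : ↥(closure ({γ} : Set X))) := by
      subst h8
      exact Groth.Agent.H17.Chev.coheight_subtype_congr hγ.symm _ _ _
    rw [← h9, ← hpn]
    exact_mod_cast hlen
  · refine iSup₂_le fun C hC => ?_
    obtain ⟨γ, hγ⟩ := exists_generic_im hY hC.1
    have hxim : x ∈ im C := ⟨⟨x, hx⟩, hC.2, rfl⟩
    have hγx : γ ⤳ x := specializes_iff_mem_closure.mpr (hγ ▸ hxim)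
    have hsub : closure ({γ} : Set X) ⊆ Y := hγ ▸ im_subset C
    rw [dim_im_eq C, ← hγ, dim_closure_eq_add h2 h3 γ x hγx]
    gcongr
    exact_mod_cast Groth.Agent.H17.Chev.coheight_subtype_mono hsub x hγx.mem_closure

end Groth.Agent.H58.JacDim
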