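import Groth.Agent.H58.JacDim.GoodNbhd

set_option autoImplicit false
set_option linter.unusedSectionVars false
universe u
open CategoryTheory AlgebraicGeometry Topology Order TopologicalSpace

namespace Groth.Agent.H58.JacDim

variable {X : Scheme.{u}} [IsLocallyNoetherian X] [JacobsonSpace X]
  (h2 : ∀ x : X, CAlg.IsUniversallyCatenary (X.presheaf.stalk x))
  (h3 : ∀ X' ∈ irreducibleComponents (X : Type u), ∀ x ∈ X', IsClosed ({x} : Set X) →
      topologicalKrullDim (↥X' : Type u) = topologicalKrullDim ↥{t : X | t ∈ X' ∧ t ⤳ x})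
  {Y : Set X} (hY : IsClosed Y) (x : X) (hx : x ∈ Y)

omit [IsLocallyNoetherian X] [JacobsonSpace X] in
theorem dim_preimage_eq (Y U : Set X) :
    topologicalKrullDim ↥((Subtype.val : ↥Y → X) ⁻¹' U) = topologicalKrullDim ↥(U ∩ Y) := by
  refine Groth.Agent.H17.Chev.topologicalKrullDim_eq_of_isEmbedding
    (fun c : ↥((Subtype.val : ↥Y → X) ⁻¹' U) => ((c : ↥Y) : X)) ?_ (U ∩ Y) ?_
  · exact IsEmbedding.subtypeVal.comp IsEmbedding.subtypeVal
  · ext t
    constructor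
    · rintro ⟨c, rfl⟩; exact ⟨c.2, c.1.2⟩
    · rintro ⟨htU, htY⟩; exact ⟨⟨⟨t, htY⟩, htU⟩, rfl⟩

include h2 h3 hY in
theorem localDim_eq_Dsup : FlatMor.localDim ↥Y ⟨x, hx⟩ = Dsup Y x hx := by
  apply le_antisymm
  · obtain ⟨U, hU, hxU, hgood⟩ := exists_good hY x hx
    let W : Opens ↥Y := ⟨(Subtype.val : ↥Y → X) ⁻¹' U, hU.preimage continuous_subtype_val⟩
    refine (Groth.Agent.H17.Chev.localDim_le_dim_of_mem (⟨x, hx⟩ : ↥Y) W hxU).trans ?_
    change topologicalKrullDim ↥((Subtype.val : ↥Y → X) ⁻¹' U) ≤ _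
    rw [dim_preimage_eq]
    exact dim_inter_le_Dsup hY x hx U hU hgood
  · unfold FlatMor.localDim
    refine le_iInf fun W => ?_
    obtain ⟨U, hU, hUW⟩ := isOpen_induced_iff.mp W.1.isOpen
    have hxU : x ∈ U := by
      have : (⟨x, hx⟩ : ↥Y) ∈ (Subtype.val : ↥Y → X) ⁻¹' U := by rw [hUW]; exact W.2
      exact this
    have e : topologicalKrullDim ↥((W.1 : Opens ↥Y) : Set ↥Y) =
        topologicalKrullDim ↥((Subtype.val : ↥Y → X) ⁻¹' U) :=
      Groth.Agent.H17.Chev.topologicalKrullDim_subtype_congr hUW.symm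
    rw [e, dim_preimage_eq]
    exact Dsup_le_dim_inter h2 h3 hY x hx U hU hxU

include h2 h3 hY in
/-- EGA IV 10.6.1-type statement (S4888). -/
theorem main :
    FlatMor.localDim ↥Y ⟨x, hx⟩ =
        topologicalKrullDim ↥(closure ({x} : Set X)) + topologicalKrullDim ↥{t : X | t ∈ Y ∧ t ⤳ x} ∧
      FlatMor.localDim ↥Y ⟨x, hx⟩ =
        ⨆ C ∈ {C : Set ↥Y | C ∈ irreducibleComponents ↥Y ∧ (⟨x, hx⟩ : ↥Y) ∈ C}, topologicalKrullDim ↥C ∧
      ∀ U : Set X, IsOpen U → x ∈ U →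
        (∀ C ∈ irreducibleComponents ↥Y, (⟨x, hx⟩ : ↥Y) ∉ C → Disjoint (Subtype.val ⁻¹' U) C) →
        topologicalKrullDim ↥(U ∩ Y) = FlatMor.localDim ↥Y ⟨x, hx⟩ := by
  have hmain := localDim_eq_Dsup h2 h3 hY x hx
  refine ⟨?_, hmain, ?_⟩
  · rw [Groth.Agent.H17.Chev.dim_generizations_inter_eq_coheight X Y hY x hx,
      closure_add_coheight_eq_Dsup h2 h3 hY x hx]
    exact hmain
  · intro U hU hxU hgood
    rw [hmain]
    exact le_antisymm (dim_inter_le_Dsup hY x hx U hU hgood)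
      (Dsup_le_dim_inter h2 h3 hY x hx U hU hxU)

end Groth.Agent.H58.JacDim
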