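import Groth.Agent.H17.Chev.EquiCodim
import Groth.Agent.H17.Chev.TopAux

set_option autoImplicit false
set_option linter.unusedSectionVars false
universe u
open CategoryTheory AlgebraicGeometry Topology Order TopologicalSpace

namespace Groth.Agent.H58.JacDim

variable {X : Scheme.{u}}

/-- the order on a subset of a scheme is the specialization order. -/
theorem subtype_le_iff (T : Set X) (a b : ↥T) : a ≤ b ↔ (b : X) ⤳ (a : X) :=
  Scheme.le_iff_specializes

theorem subtype_le_iff' (T : Set X) (a b : ↥T) : a ≤ b ↔ b ⤳ a := by
  rw [subtype_le_iff, subtype_specializes_iff]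

/-- closure of a point inside a subset -/
noncomputable def clPt (T : Set X) (t : ↥T) : IrreducibleCloseds ↥T :=
  ⟨closure {t}, isIrreducible_singleton.closure, isClosed_closure⟩

theorem clPt_strictMono (T : Set X) : StrictMono (clPt T) := by
  intro a b hab
  rw [lt_iff_le_not_ge] at hab ⊢
  obtain ⟨h1, h2⟩ := hab
  rw [subtype_le_iff'] at h1 h2
  constructor
  · change closure {a} ⊆ closure {b}
    exact specializes_iff_closure_subset.mp h1
  · intro h
    apply h2
    have : closure {b} ⊆ closure {a} := h
    exact specializes_iff_closure_subset.mpr this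

/-- The order-theoretic dimension of any subset of a scheme is at most its topological dimension. -/
theorem krullDim_subtype_le (T : Set X) : Order.krullDim ↥T ≤ topologicalKrullDim ↥T :=
  Order.krullDim_le_of_strictMono (clPt T) (clPt_strictMono T)

theorem coheight_le_topologicalKrullDim (T : Set X) (t : ↥T) :
    (coheight t : WithBot ℕ∞) ≤ topologicalKrullDim ↥T :=
  (Order.coheight_le_krullDim t).trans (krullDim_subtype_le T)

/-- the condition under which a subset of a scheme is quasi-sober: generizations (inside the
closure) of points of `T` are in `T`. -/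
def Star (T : Set X) : Prop := ∀ z ∈ T, ∀ ζ : X, ζ ⤳ z → ζ ∈ closure T → ζ ∈ T

theorem star_of_isClosed {T : Set X} (hT : IsClosed T) : Star T := by
  intro z _ ζ _ hζ
  rwa [hT.closure_eq] at hζ

theorem star_inter_open {T U : Set X} (hT : IsClosed T) (hU : IsOpen U) : Star (U ∩ T) := by
  intro z hz ζ hζz hζ
  refine ⟨hζz.mem_open hU hz.1, ?_⟩
  have : closure (U ∩ T) ⊆ T := closure_minimal Set.inter_subset_right hT
  exact this hζ

theorem quasiSober_of_star {T : Set X} (hT : Star T) : QuasiSober ↥T where
  sober {S} hS hS' := by
    have hS'' : IsIrreducible (closure (Subtype.val '' S : Set X)) :=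
      (hS.image _ continuous_subtype_val.continuousOn).closure
    obtain ⟨ζ, hζ⟩ := QuasiSober.sober hS'' isClosed_closure
    obtain ⟨z, hz⟩ := hS.nonempty
    have hζz : ζ ⤳ (z : X) := by
      rw [specializes_iff_mem_closure, hζ.def]
      exact subset_closure ⟨z, hz, rfl⟩
    have hζcl : ζ ∈ closure T := by
      have h1 : closure (Subtype.val '' S : Set X) ⊆ closure T :=
        closure_mono (by rintro _ ⟨s, -, rfl⟩; exact s.2)
      exact h1 hζ.mem
    have hζT : ζ ∈ T := hT z z.2 ζ hζz hζcl
    refine ⟨⟨ζ, hζT⟩, ?_⟩
    change closure {(⟨ζ, hζT⟩ : ↥T)} = S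
    ext y
    rw [closure_subtype, Set.image_singleton, hζ.def, ← closure_subtype, hS'.closure_eq]

/-- generic point of an irreducible closed subset of a quasi-sober subset. -/
noncomputable def genPt {T : Set X} (hT : Star T) (Z : IrreducibleCloseds ↥T) : ↥T :=
  ((quasiSober_of_star hT).sober Z.isIrreducible Z.isClosed).choose

theorem genPt_spec {T : Set X} (hT : Star T) (Z : IrreducibleCloseds ↥T) :
    IsGenericPoint (genPt hT Z) (Z : Set ↥T) :=
  ((quasiSober_of_star hT).sober Z.isIrreducible Z.isClosed).choose_spec

theorem genPt_strictMono {T : Set X} (hT : Star T) : StrictMono (genPt hT) := by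
  intro Z Z' hZZ'
  rw [lt_iff_le_not_ge] at hZZ' ⊢
  obtain ⟨h1, h2⟩ := hZZ'
  have hg := genPt_spec hT Z
  have hg' := genPt_spec hT Z'
  constructor
  · rw [subtype_le_iff', specializes_iff_mem_closure, hg'.def]
    exact h1 hg.mem
  · intro h
    apply h2
    rw [subtype_le_iff', specializes_iff_closure_subset, hg.def, hg'.def] at h
    exact h

/-- For a quasi-sober subset of a scheme the topological dimension is the order dimension. -/
theorem topologicalKrullDim_eq_krullDim {T : Set X} (hT : Star T) :
    topologicalKrullDim ↥T = Order.krullDim ↥T :=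
  le_antisymm (Order.krullDim_le_of_strictMono (genPt hT) (genPt_strictMono hT))
    (krullDim_subtype_le T)

theorem topologicalKrullDim_eq_iSup_coheight {T : Set X} (hT : Star T) :
    topologicalKrullDim ↥T = ⨆ t : ↥T, (coheight t : WithBot ℕ∞) := by
  rw [topologicalKrullDim_eq_krullDim hT, Order.krullDim_eq_iSup_coheight]

/-- the coheight of a point in a subset depends only on the generizations in the subset. -/
theorem coheight_subtype_eq_of_Ici {T T' : Set X} (h : T' ⊆ T) (c : X) (hc : c ∈ T')
    (hup : ∀ t ∈ T, t ⤳ c → t ∈ T') :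
    coheight (⟨c, hc⟩ : ↥T') = coheight (⟨c, h hc⟩ : ↥T) := by
  apply le_antisymm (Groth.Agent.H17.Chev.coheight_subtype_mono h c hc)
  rw [Order.coheight_le_iff']
  intro p hp
  -- every member of `p` is a generization of `c`, hence in `T'`
  have hmem : ∀ i, ((p i : ↥T) : X) ∈ T' := by
    intro i
    apply hup _ (p i).2
    have h1 : p.head ≤ p i := p.monotone (Fin.zero_le i)
    rw [hp] at h1
    exact Scheme.le_iff_specializes.mp h1
  let q : LTSeries ↥T' :=
    { length := p.length
      toFun := fun i => ⟨(p i : X), hmem i⟩
      step := fun i => by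
        have := p.step i
        exact this }
  have hq : (⟨c, hc⟩ : ↥T') ≤ q.head := by
    have : q.head = ⟨(p.head : X), hmem 0⟩ := rfl
    rw [this]
    have h2 : ((p.head : ↥T) : X) = c := by rw [hp]
    exact le_of_eq (Subtype.ext h2.symm)
  exact Order.length_le_coheight hq
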