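import Groth.Agent.H58.LenDVR.StalkMod
import Groth.Agent.H58.JacDim.Top

set_option autoImplicit false
set_option linter.unusedSectionVars false
set_option linter.style.haveILetI false
universe u
open CategoryTheory AlgebraicGeometry Topology Order TopologicalSpace
open Groth.Agent.H15.StalkLoc Groth.Agent.H58.LenDVR

namespace Groth.Agent.H58.JacDim

variable {X : Scheme.{u}}

/-- the prime of a more special generization is bigger. -/
theorem genPrime_le_of_specializes {z ξ ζ : X} (h₁ : ξ ⤳ z) (h₂ : ζ ⤳ z) (h : ξ ⤳ ζ) :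
    genPrime h₁ ≤ genPrime h₂ := by
  intro a ha
  rw [mem_genPrime_iff] at ha ⊢
  intro hu
  apply ha
  have hcomp : X.presheaf.stalkSpecializes h₂ ≫ X.presheaf.stalkSpecializes h =
      X.presheaf.stalkSpecializes h₁ := TopCat.Presheaf.stalkSpecializes_comp _ h h₂
  have : (X.presheaf.stalkSpecializes h₁).hom a =
      (X.presheaf.stalkSpecializes h).hom ((X.presheaf.stalkSpecializes h₂).hom a) := by
    rw [← hcomp]; rfl
  rw [this]
  exact hu.map _

variable (F : X.Modules) [F.IsQuasicoherent]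

theorem mem_support_iff_nontrivial (t : X) : t ∈ CohB1.support F ↔ Nontrivial (F.presheaf.stalk t) := by
  unfold CohB1.support
  rw [Set.mem_setOf_eq, not_subsingleton_iff_nontrivial]

/-- the dimension of the stalk module `F_x` is the codimension of `cl{x}` in the support. -/
theorem supportDim_stalk_eq_coheight (x : X) (hx : x ∈ CohB1.support F) :
    Module.supportDim (X.presheaf.stalk x) (F.presheaf.stalk x) =
      (coheight (⟨x, hx⟩ : ↥(CohB1.support F)) : WithBot ℕ∞) := by
  rw [Order.coheight_eq_krullDim_Ici]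
  unfold Module.supportDim
  have hsp : ∀ a : ↥(Set.Ici (⟨x, hx⟩ : ↥(CohB1.support F))), ((a : ↥(CohB1.support F)) : X) ⤳ x :=
    fun a => Scheme.le_iff_specializes.mp a.2
  apply le_antisymm
  · -- support → Ici, order reversing
    rw [← Order.krullDim_orderDual (α := ↥(Set.Ici (⟨x, hx⟩ : ↥(CohB1.support F))))]
    have hch : ∀ P : ↥(Module.support (X.presheaf.stalk x) (F.presheaf.stalk x)),
        ∃ (ξ : X) (h : ξ ⤳ x), genPrime h = (P : PrimeSpectrum (X.presheaf.stalk x)).asIdeal := by
      intro P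
      haveI := (P : PrimeSpectrum (X.presheaf.stalk x)).isPrime
      exact Groth.Agent.H99.RkField.exists_genPrime_eq x _
    choose ξ hξ hgen using hch
    have hmem : ∀ P, ξ P ∈ CohB1.support F := by
      intro P
      rw [mem_support_iff_nontrivial, nontrivial_stalk_iff_mem_support F (hξ P)]
      have : (⟨genPrime (hξ P), inferInstance⟩ : PrimeSpectrum (X.presheaf.stalk x)) = P.1 :=
        PrimeSpectrum.ext (hgen P)
      rw [this]
      exact P.2
    let f : ↥(Module.support (X.presheaf.stalk x) (F.presheaf.stalk x)) →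
        (↥(Set.Ici (⟨x, hx⟩ : ↥(CohB1.support F))))ᵒᵈ :=
      fun P => OrderDual.toDual ⟨⟨ξ P, hmem P⟩, Scheme.le_iff_specializes.mpr (hξ P)⟩
    refine Order.krullDim_le_of_strictMono f ?_
    intro P Q hPQ
    rw [lt_iff_le_not_ge] at hPQ
    obtain ⟨h1, h2⟩ := hPQ
    have h1' : genPrime (hξ P) ≤ genPrime (hξ Q) := by rw [hgen, hgen]; exact h1
    have hsp1 : ξ P ⤳ ξ Q := Groth.Agent.H58.SkOpen.specializes_of_genPrime_le (hξ P) (hξ Q) h1'
    change (⟨⟨ξ Q, hmem Q⟩, _⟩ : ↥(Set.Ici (⟨x, hx⟩ : ↥(CohB1.support F)))) <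
      ⟨⟨ξ P, hmem P⟩, _⟩
    rw [lt_iff_le_not_ge]
    refine ⟨Scheme.le_iff_specializes.mpr hsp1, fun hle => h2 ?_⟩
    have hsp2 : ξ Q ⤳ ξ P := Scheme.le_iff_specializes.mp hle
    have := genPrime_le_of_specializes (hξ Q) (hξ P) hsp2
    rw [hgen, hgen] at this
    exact this
  · -- Ici → support, order reversing
    rw [← Order.krullDim_orderDual
      (α := ↥(Module.support (X.presheaf.stalk x) (F.presheaf.stalk x)))]
    let f : ↥(Set.Ici (⟨x, hx⟩ : ↥(CohB1.support F))) →
        (↥(Module.support (X.presheaf.stalk x) (F.presheaf.stalk x)))ᵒᵈ :=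
      fun a => OrderDual.toDual ⟨⟨genPrime (hsp a), inferInstance⟩,
        (nontrivial_stalk_iff_mem_support F (hsp a)).mp
          ((mem_support_iff_nontrivial F _).mp (a : ↥(CohB1.support F)).2)⟩
    refine Order.krullDim_le_of_strictMono f ?_
    intro a b hab
    rw [lt_iff_le_not_ge] at hab
    obtain ⟨h1, h2⟩ := hab
    have hsp1 : ((b : ↥(CohB1.support F)) : X) ⤳ ((a : ↥(CohB1.support F)) : X) :=
      Scheme.le_iff_specializes.mp h1
    change (⟨⟨genPrime (hsp b), _⟩, _⟩ :
      ↥(Module.support (X.presheaf.stalk x) (F.presheaf.stalk x))) < ⟨⟨genPrime (hsp a), _⟩, _⟩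
    rw [lt_iff_le_not_ge]
    refine ⟨genPrime_le_of_specializes (hsp b) (hsp a) hsp1, fun hle => h2 ?_⟩
    have hle' : genPrime (hsp a) ≤ genPrime (hsp b) := hle
    exact Scheme.le_iff_specializes.mpr (Groth.Agent.H58.SkOpen.specializes_of_genPrime_le (hsp a) (hsp b) hle')

end Groth.Agent.H58.JacDim
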