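import Groth.Agent.H58.JacDim.FT
import Groth.Agent.H58.JacDim.SuppDim
import Groth.Agent.H71.QCoh.SupportProper

set_option autoImplicit false
set_option linter.unusedSectionVars false
set_option linter.style.haveILetI false
universe u
open CategoryTheory AlgebraicGeometry Topology Order TopologicalSpace

namespace Groth.Agent.H58.JacDim

/-- EGA IV 10.6-type statement (S4889). -/
theorem main4889 {X S : Scheme.{u}} [IsLocallyNoetherian S]
    [JacobsonSpace S] (h2 : ∀ s : S, CAlg.IsUniversallyCatenary (S.presheaf.stalk s))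
    (h3 : ∀ S' ∈ irreducibleComponents (S : Type u), ∀ s ∈ S', IsClosed ({s} : Set S) →
      topologicalKrullDim (↥S' : Type u) = topologicalKrullDim ↥{t : S | t ∈ S' ∧ t ⤳ s})
    (g : X ⟶ S) [LocallyOfFiniteType g] (F : X.Modules) (hF : Coh.IsCoh F) (x : X)
    (hx : x ∈ CohB1.support F) :
    topologicalKrullDim ↥(closure ({x} : Set X)) +
        Module.supportDim ↑(X.presheaf.stalk x) ↑(F.presheaf.stalk x) =
      FlatMor.localDim ↥(CohB1.support F) ⟨x, hx⟩ := by
  haveI : IsLocallyNoetherian X := LocallyOfFiniteType.isLocallyNoetherian g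
  haveI : JacobsonSpace X := LocallyOfFiniteType.jacobsonSpace g
  haveI : F.IsQuasicoherent := hF.1
  haveI : SheafOfModules.IsFiniteType (R := X.ringCatSheaf) F := hF.2
  have hY : IsClosed (CohB1.support F) := Groth.Agent.H71.QCoh.isClosed_support F
  have h2X : ∀ x : X, CAlg.IsUniversallyCatenary (X.presheaf.stalk x) :=
    fun x => isUniversallyCatenary_stalk_of_lft h2 g x
  have h3X : ∀ X' ∈ irreducibleComponents (X : Type u), ∀ x ∈ X', IsClosed ({x} : Set X) →
      topologicalKrullDim (↥X' : Type u) = topologicalKrullDim ↥{t : X | t ∈ X' ∧ t ⤳ x} :=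
    fun X' hX' x hx hc => equicodim_of_lft h2 h3 g X' hX' x hx hc
  rw [supportDim_stalk_eq_coheight F x hx, closure_add_coheight_eq_Dsup h2X h3X hY x hx,
    localDim_eq_Dsup h2X h3X hY x hx]

end Groth.Agent.H58.JacDim
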